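import Groth.Agent.Brnch93.Rows
import Groth.Agent.S2312
import Groth.Agent.S0540
import Mathlib

/-!
# Geometric unibranchness through the punctured spectra of the strict henselizations
-/

set_option autoImplicit false
set_option linter.style.haveILetI false

universe u

open CategoryTheory AlgebraicGeometry IsLocalRing TopologicalSpace

namespace Groth.Agent.Brnch93

open Groth.Agent.Hensel (Henz Nbhd)
open Groth.Agent
open Groth.Agent.AlgSpDec

/-- A local ring with one prime is geometrically unibranch. -/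
theorem isGeomUnibranch_of_subsingleton (R : Type u) [CommRing R] [IsLocalRing R] [Subsingleton (PrimeSpectrum R)] :
    CAlg2.IsGeomUnibranch R := by
  obtain ⟨S, _, _, _, _, hS⟩ := S0537.result R
  rw [← S9236.result, ← S9238.result R S, ENat.card_coe_set_eq, Set.encard_eq_one]
  have hall : ∀ P : Ideal S, P.IsPrime → P = maximalIdeal S := fun P hP => by
    refine le_antisymm (le_maximalIdeal hP.ne_top) ?_
    rw [← Hensel.map_maximalIdeal_of_isStrictHenselization (R := R) (S := S), Ideal.map_le_iff_le_comap]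
    exact (congrArg PrimeSpectrum.asIdeal (Subsingleton.elim (⟨P.comap (algebraMap R S), inferInstance⟩ : PrimeSpectrum R)
      (closedPoint R))).ge
  exact ⟨maximalIdeal S, Set.ext fun P => ⟨fun hP => hall P hP.1.1, fun hP => by
    rw [Set.mem_singleton_iff.1 hP]
    exact ⟨⟨inferInstance, bot_le⟩, fun Q hQ _ => (hall Q hQ.1).ge⟩⟩⟩

/-- With one minimal prime the punctured spectrum is connected. -/
theorem connectedSpace_punctured_of_unique {S : Type u} [CommRing S] [IsLocalRing S] (h : (minimalPrimes S).encard = 1)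
    (hne : ∃ P : Ideal S, P.IsPrime ∧ P ≠ maximalIdeal S) :
    ConnectedSpace ↥({closedPoint S}ᶜ : Set (PrimeSpectrum S)) := by
  obtain ⟨q, hq⟩ := Set.encard_eq_one.1 h
  have hqmin : q ∈ minimalPrimes S := hq ▸ rfl
  have hle : ∀ P : PrimeSpectrum S, q ≤ P.asIdeal := fun P => by
    obtain ⟨Q, hQ, hQP⟩ := Ideal.exists_minimalPrimes_le (I := (⊥ : Ideal S)) (J := P.asIdeal) bot_le
    have : Q = q := (Set.ext_iff.1 hq Q).1 hQ
    exact this ▸ hQP
  let η : PrimeSpectrum S := ⟨q, hqmin.1.1⟩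
  have hη : η ∈ ({closedPoint S}ᶜ : Set (PrimeSpectrum S)) := by
    intro he
    obtain ⟨P, hP, hP'⟩ := hne
    refine hP' (le_antisymm (le_maximalIdeal hP.ne_top) ?_)
    have : q = maximalIdeal S := congrArg PrimeSpectrum.asIdeal (Set.mem_singleton_iff.1 he)
    rw [← this]
    exact hle ⟨P, hP⟩
  haveI : Nonempty ↥({closedPoint S}ᶜ : Set (PrimeSpectrum S)) := ⟨⟨η, hη⟩⟩
  haveI : PreirreducibleSpace ↥({closedPoint S}ᶜ : Set (PrimeSpectrum S)) := by
    refine ⟨fun U V hU hV ⟨a, _, ha⟩ ⟨b, _, hb⟩ => ⟨⟨η, hη⟩, trivial, ?_, ?_⟩⟩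
    · exact (show (⟨η, hη⟩ : ↥({closedPoint S}ᶜ : Set (PrimeSpectrum S))) ⤳ a from
        subtype_specializes_iff _ _ |>.2 ((PrimeSpectrum.le_iff_specializes η a.1).1 (hle a.1))).mem_open hU ha
    · exact (show (⟨η, hη⟩ : ↥({closedPoint S}ᶜ : Set (PrimeSpectrum S))) ⤳ b from
        subtype_specializes_iff _ _ |>.2 ((PrimeSpectrum.le_iff_specializes η b.1).1 (hle b.1))).mem_open hV hb
  haveI : IrreducibleSpace ↥({closedPoint S}ᶜ : Set (PrimeSpectrum S)) := ⟨inferInstance⟩
  infer_instance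

/-- In a connected punctured spectrum two components meet. -/
theorem exists_le_of_connected {S : Type u} [CommRing S] [IsLocalRing S] [IsNoetherianRing S]
    [ConnectedSpace ↥({closedPoint S}ᶜ : Set (PrimeSpectrum S))] {Q₁ Q₂ : Ideal S} (h1 : Q₁ ∈ minimalPrimes S)
    (h2 : Q₂ ∈ minimalPrimes S) (hne : Q₁ ≠ Q₂) :
    ∃ P : Ideal S, P.IsPrime ∧ P ≠ maximalIdeal S ∧ Q₁ ≤ P ∧ ∃ Q ∈ minimalPrimes S, Q ≠ Q₁ ∧ Q ≤ P := by
  have hnm : ∀ Q ∈ minimalPrimes S, Q ≠ maximalIdeal S := fun Q hQ he => by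
    obtain ⟨R, hR, hRQ⟩ : ∃ R ∈ minimalPrimes S, R ≠ Q := by
      by_cases h : Q₁ = Q
      · exact ⟨Q₂, h2, fun h' => hne (h.trans h'.symm)⟩
      · exact ⟨Q₁, h1, h⟩
    exact hRQ (le_antisymm (he ▸ le_maximalIdeal hR.1.1.ne_top) (hQ.2 hR.1 (he ▸ le_maximalIdeal hR.1.1.ne_top)))
  let T := ↥({closedPoint S}ᶜ : Set (PrimeSpectrum S))
  let C₁ : Set T := (Subtype.val : T → PrimeSpectrum S) ⁻¹' PrimeSpectrum.zeroLocus (Q₁ : Set S)
  let C₂ : Set T := (Subtype.val : T → PrimeSpectrum S) ⁻¹'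
    ⋃ Q ∈ minimalPrimes S \ {Q₁}, PrimeSpectrum.zeroLocus (Q : Set S)
  have hc1 : IsClosed C₁ := (PrimeSpectrum.isClosed_zeroLocus _).preimage continuous_subtype_val
  have hc2 : IsClosed C₂ := (Set.Finite.isClosed_biUnion ((minimalPrimes.finite_of_isNoetherianRing S).sdiff)
    fun Q _ => PrimeSpectrum.isClosed_zeroLocus _).preimage continuous_subtype_val
  have hcover : Set.univ ⊆ C₁ ∪ C₂ := fun P _ => by
    obtain ⟨Q, hQ, hQP⟩ := Ideal.exists_minimalPrimes_le (I := (⊥ : Ideal S)) (J := P.1.asIdeal) bot_le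
    by_cases h : Q = Q₁
    · rw [h] at hQP
      exact Or.inl hQP
    · exact Or.inr (Set.mem_biUnion ⟨hQ, h⟩ hQP)
  have hmk : ∀ Q ∈ minimalPrimes S, ∃ P : T, P.1.asIdeal = Q := fun Q hQ =>
    ⟨⟨⟨Q, hQ.1.1⟩, fun he => hnm Q hQ (congrArg PrimeSpectrum.asIdeal (Set.mem_singleton_iff.1 he))⟩, rfl⟩
  obtain ⟨P1, hP1⟩ := hmk Q₁ h1
  obtain ⟨P2, hP2⟩ := hmk Q₂ h2
  obtain ⟨P, -, hPC₁, hPC₂⟩ := isPreconnected_closed_iff.1 (isPreconnected_univ (α := T)) C₁ C₂ hc1 hc2 hcover
    ⟨P1, trivial, hP1.ge⟩ ⟨P2, trivial, Set.mem_biUnion ⟨h2, fun h => hne h.symm⟩ hP2.ge⟩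
  obtain ⟨Q, ⟨hQ, hQne⟩, hQP⟩ := Set.mem_iUnion₂.1 (show (P : PrimeSpectrum S) ∈
    ⋃ Q ∈ minimalPrimes S \ {Q₁}, PrimeSpectrum.zeroLocus (Q : Set S) from hPC₂)
  exact ⟨P.1.asIdeal, P.1.isPrime, fun h => P.2 (PrimeSpectrum.ext h), hPC₁, Q, hQ, hQne, hQP⟩

variable {X : Scheme.{u}}

/-- Two components of the universal neighbourhood through a point give two through an etale neighbourhood. -/
theorem exists_nbhd_two_components {V : X.Opens} (hV : IsAffineOpen V) {K : Type u} [Field K] [Algebra Γ(X, V) K]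
    {P Q₁ Q₂ : Ideal (Henz Γ(X, V) K)} [P.IsPrime] (h1 : Q₁ ∈ minimalPrimes (Henz Γ(X, V) K))
    (h2 : Q₂ ∈ minimalPrimes (Henz Γ(X, V) K)) (hne : Q₁ ≠ Q₂) (hP1 : Q₁ ≤ P) (hP2 : Q₂ ≤ P) :
    ¬ CAlg2.IsGeomUnibranch
      (X.presheaf.stalk (hV.fromSpec ⟨P.comap (algebraMap Γ(X, V) (Henz Γ(X, V) K)), inferInstance⟩)) := by
  let q : Spec Γ(X, V) := ⟨P.comap (algebraMap Γ(X, V) (Henz Γ(X, V) K)), inferInstance⟩
  intro hy
  have hyV : hV.fromSpec q ∈ V := hV.range_fromSpec.le ⟨q, rfl⟩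
  have hp : hV.primeIdealOf ⟨hV.fromSpec q, hyV⟩ = q := hV.fromSpec.isOpenEmbedding.injective (hV.fromSpec_primeIdealOf _)
  rw [hV.primeIdealOf_eq_map_closedPoint] at hp
  obtain ⟨z, hz1, hz2⟩ := SetLike.not_le_iff_exists.1 (fun hle : Q₁ ≤ Q₂ => hne (le_antisymm hle (h2.2 h1.1 hle)))
  obtain ⟨N, -, hN⟩ := Henz.exists_of_finset (Classical.arbitrary (Nbhd Γ(X, V) K)) {z}
  obtain ⟨y, hy'⟩ := hN z (Finset.mem_singleton_self z)
  let j : N.B →+* Henz Γ(X, V) K := (Henz.of N).toRingHom.comp (algebraMap N.B N.Stage)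
  have hjA : j.comp (algebraMap Γ(X, V) N.B) = algebraMap Γ(X, V) (Henz Γ(X, V) K) := by
    rw [RingHom.comp_assoc, ← IsScalarTower.algebraMap_eq]
    exact (Henz.of N).comp_algebraMap
  have hmin : ∀ Q ∈ minimalPrimes (Henz Γ(X, V) K), Q.comap j ∈ minimalPrimes N.B := by
    intro Q hQ
    letI := (Henz.of N).toRingHom.toAlgebra
    haveI := faithfullyFlat_of N
    have hQ' : Q ∈ ((⊥ : Ideal N.Stage).map (algebraMap N.Stage (Henz Γ(X, V) K))).minimalPrimes := by
      rw [Ideal.map_bot]; exact hQ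
    have h := comap_mem_minimalPrimes_map (⊥ : Ideal N.Stage) hQ'
    rw [RingHom.algebraMap_toAlgebra] at h
    show Q.comap ((Henz.of N).toRingHom.comp (algebraMap N.B N.Stage)) ∈ _
    rw [← Ideal.comap_comap]
    haveI := h.1.1
    refine ⟨⟨inferInstance, bot_le⟩, fun q' ⟨hq', _⟩ hle => ?_⟩
    obtain ⟨hq'm, hdis⟩ := (IsLocalization.isPrime_iff_isPrime_disjoint N.S N.Stage _).1 h.1.1
    have hdis' : Disjoint (N.S : Set N.B) q' := hdis.mono_right hle
    have hp' := IsLocalization.isPrime_of_isPrime_disjoint N.S N.Stage q' hq' hdis'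
    have := h.2 ⟨hp', bot_le⟩ (Ideal.map_le_iff_le_comap.2 hle)
    exact (Ideal.comap_mono this).trans (IsLocalization.under_map_of_isPrime_disjoint N.S N.Stage hq' hdis').le
  have hne' : Q₁.comap j ≠ Q₂.comap j := fun he => by
    obtain ⟨b, s, rfl⟩ := IsLocalization.exists_mk'_eq N.S y
    have hu : IsUnit (j (s : N.B)) := (IsLocalization.map_units N.Stage s).map (Henz.of N).toRingHom
    have hb : j b = z * j (s : N.B) := by
      rw [← hy']
      show Henz.of N (algebraMap N.B N.Stage b) = Henz.of N _ * Henz.of N _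
      rw [← map_mul, IsLocalization.mk'_spec]
    have hb1 : b ∈ Q₁.comap j := by rw [Ideal.mem_comap, hb]; exact Ideal.mul_mem_right _ _ hz1
    rw [he, Ideal.mem_comap, hb] at hb1
    exact hz2 (((Ideal.mul_unit_mem_iff_mem Q₂ hu).1 hb1))
  haveI : (P.comap j).IsPrime := inferInstance
  obtain ⟨U, g, u, hg, h, ι, hι, hloc, -⟩ := exists_spec_nbhd V hV hyV N.B (P.comap j) (by
    rw [Ideal.comap_comap, hjA]
    exact congrArg PrimeSpectrum.asIdeal hp.symm)
  have hone := (isGeomUnibranch_stalk_iff X _).1 hy U g u hg h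
  rw [encard_components_point] at hone
  letI := ι.toAlgebra
  haveI := hloc
  obtain ⟨Q0, hQ0⟩ := Set.encard_eq_one.1 hone
  have key : ∀ Q ∈ minimalPrimes (Henz Γ(X, V) K), Q ≤ P → Q.comap j = Q0.comap (algebraMap N.B (U.presheaf.stalk u)) := by
    intro Q hQ hle
    have hQj := hmin Q hQ
    have hQj' := hQj.1.1
    have hdis : Disjoint (((maximalIdeal (U.presheaf.stalk u)).comap ι).primeCompl : Set N.B) (Q.comap j) := by
      rw [Set.disjoint_left]
      intro b hb hbQ
      exact hb (hι ▸ Ideal.comap_mono hle hbQ)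
    have hpr := IsLocalization.isPrime_of_isPrime_disjoint _ (U.presheaf.stalk u) _ hQj' hdis
    obtain ⟨R, hR, hRle⟩ := Ideal.exists_minimalPrimes_le (I := (⊥ : Ideal (U.presheaf.stalk u)))
      (J := (Q.comap j).map (algebraMap N.B (U.presheaf.stalk u))) bot_le
    have hR0 : R = Q0 := (Set.ext_iff.1 hQ0 R).1 hR
    have hc := IsLocalization.under_map_of_isPrime_disjoint ((maximalIdeal (U.presheaf.stalk u)).comap ι).primeCompl
      (U.presheaf.stalk u) hQj' hdis
    have hle' : R.comap (algebraMap N.B (U.presheaf.stalk u)) ≤ Q.comap j := (Ideal.comap_mono hRle).trans hc.le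
    haveI := hR.1.1
    rw [← hR0]
    exact le_antisymm (hQj.2 ⟨inferInstance, bot_le⟩ hle') hle'
  exact hne' ((key Q₁ h1 hP1).trans (key Q₂ h2 hP2).symm)

theorem isGeomUnibranch_stalks_iff (X : Scheme.{u}) [IsNoetherian X] :
    (∀ x : X, CAlg2.IsGeomUnibranch (X.presheaf.stalk x)) ↔
      ∀ (x : X), closure ({x} : Set X) ∉ irreducibleComponents X →
        ∀ (Ash : Type u) [CommRing Ash] [IsLocalRing Ash] [Algebra (X.presheaf.stalk x) Ash]
          [IsLocalHom (algebraMap (X.presheaf.stalk x) Ash)]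
          [_root_.Hensel.IsStrictHenselization (X.presheaf.stalk x) Ash],
          ConnectedSpace ↥({closedPoint Ash}ᶜ : Set (PrimeSpectrum Ash)) := by
  constructor
  · intro h x hx Ash _ _ _ _ _
    refine connectedSpace_punctured_of_unique ?_ ?_
    · rw [← ENat.card_coe_set_eq, S9238.result (X.presheaf.stalk x) Ash]
      exact (S9236.result _).2 (h x)
    · by_contra hne
      push Not at hne
      refine hx ((S2312.result X x).2 ⟨fun a b => PrimeSpectrum.ext ?_⟩)
      haveI := Hensel.faithfullyFlat_of_isStrictHenselization (R := X.presheaf.stalk x) (S := Ash)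
      obtain ⟨a', ha'⟩ := PrimeSpectrum.comap_surjective_of_faithfullyFlat (B := Ash) a
      obtain ⟨b', hb'⟩ := PrimeSpectrum.comap_surjective_of_faithfullyFlat (B := Ash) b
      rw [← ha', ← hb', PrimeSpectrum.ext ((hne a'.asIdeal a'.isPrime).trans (hne b'.asIdeal b'.isPrime).symm)]
  · intro H x
    obtain ⟨V, hV, hxV, -⟩ := exists_isAffineOpen_mem_and_subset (x := x) (U := ⊤) trivial
    haveI : IsNoetherianRing Γ(X, V) := IsLocallyNoetherian.component_noetherian ⟨V, hV⟩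
    suffices key : ∀ (n : ℕ∞) (q : Spec Γ(X, V)), q.asIdeal.height = n →
        CAlg2.IsGeomUnibranch (X.presheaf.stalk (hV.fromSpec q)) by
      have := key _ (hV.primeIdealOf ⟨x, hxV⟩) rfl
      rwa [hV.fromSpec_primeIdealOf] at this
    intro n
    induction n using WellFoundedLT.induction with
    | _ n ih =>
    intro q hqn
    let y := hV.fromSpec q
    by_cases hgen : closure ({y} : Set X) ∈ irreducibleComponents X
    · haveI := (S2312.result X y).1 hgen
      exact isGeomUnibranch_of_subsingleton _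
    have hyV : y ∈ V := hV.range_fromSpec.le ⟨q, rfl⟩
    letI := (X.presheaf.germ V y hyV).hom.toAlgebra
    let p := (maximalIdeal (X.presheaf.stalk y)).comap (algebraMap Γ(X, V) (X.presheaf.stalk y))
    have hpq : p = q.asIdeal := by
      have := hV.fromSpec.isOpenEmbedding.injective (hV.fromSpec_primeIdealOf ⟨y, hyV⟩)
      rw [hV.primeIdealOf_eq_map_closedPoint] at this
      exact congrArg PrimeSpectrum.asIdeal this
    haveI : IsLocalization.AtPrime (X.presheaf.stalk y) p := isLocalization_germ hV y hyV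
    let K := AlgebraicClosure (ResidueField (X.presheaf.stalk y))
    haveI : IsLocalHom (algebraMap (X.presheaf.stalk y) K) := ⟨fun r hr => by
      rw [IsScalarTower.algebraMap_apply _ (ResidueField (X.presheaf.stalk y)) K, isUnit_iff_ne_zero, Ne, map_eq_zero] at hr
      exact (residue_ne_zero_iff_isUnit r).1 hr⟩
    letI := (EtHenz.fromLocal Γ(X, V) (X.presheaf.stalk y) K p.primeCompl).toRingHom.toAlgebra
    obtain ⟨hl, hs⟩ := EtHenz.isStrictHenselization Γ(X, V) (X.presheaf.stalk y) K p.primeCompl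
    haveI := hl
    haveI := hs
    haveI := H y hgen (Henz Γ(X, V) K)
    haveI : IsNoetherianRing (Henz Γ(X, V) K) :=
      (S0540.result (X.presheaf.stalk y) _).1 (IsLocalization.isNoetherianRing p.primeCompl _ inferInstance)
    show CAlg2.IsGeomUnibranch (X.presheaf.stalk y)
    rw [← S9236.result, ← S9238.result (X.presheaf.stalk y) (Henz Γ(X, V) K), ENat.card_coe_set_eq]
    refine le_antisymm ?_ (Set.one_le_encard_iff_nonempty.2 ?_)
    · by_contra hcard
      obtain ⟨Q₁, Q₂, h1, h2, hne⟩ := Set.one_lt_encard_iff.1 (not_le.1 hcard)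
      obtain ⟨P, hP, hPm, hP1, Q, hQ, hQne, hQP⟩ := exists_le_of_connected h1 h2 hne
      refine exists_nbhd_two_components hV h1 hQ (fun h => hQne h.symm) hP1 hQP ?_
      have hlt : P.comap (algebraMap Γ(X, V) (Henz Γ(X, V) K)) < q.asIdeal := by
        have hcomp : algebraMap Γ(X, V) (Henz Γ(X, V) K) = (algebraMap (X.presheaf.stalk y) (Henz Γ(X, V) K)).comp
            (algebraMap Γ(X, V) (X.presheaf.stalk y)) :=
          (EtHenz.fromLocal Γ(X, V) (X.presheaf.stalk y) K p.primeCompl).comp_algebraMap.symm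
        rw [hcomp, ← Ideal.comap_comap, ← hpq]
        refine lt_of_le_of_ne (Ideal.comap_mono (le_maximalIdeal (Ideal.IsPrime.ne_top inferInstance))) fun he => hPm ?_
        refine le_antisymm (le_maximalIdeal hP.ne_top) ?_
        rw [← Hensel.map_maximalIdeal_of_isStrictHenselization (R := X.presheaf.stalk y) (S := Henz Γ(X, V) K),
          Ideal.map_le_iff_le_comap, ← map_comap_eq p (X.presheaf.stalk y) (maximalIdeal (X.presheaf.stalk y)),
          Ideal.map_le_iff_le_comap]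
        exact he.ge
      haveI : q.asIdeal.IsPrime := q.isPrime
      exact ih _ (hqn ▸ Ideal.height_strict_mono_of_isPrime_of_isPrime hlt) ⟨_, inferInstance⟩ rfl
    · obtain ⟨Q, hQ, -⟩ := Ideal.exists_minimalPrimes_le (I := (⊥ : Ideal (Henz Γ(X, V) K)))
        (J := maximalIdeal (Henz Γ(X, V) K)) bot_le
      exact ⟨Q, hQ⟩

end Groth.Agent.Brnch93
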