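import Groth.Agent.AlgSpDec.EtHenzField
import Groth.Agent.WEtLib.Basic
import Groth.Agent.S9237
import Groth.Agent.S9238
import Mathlib

/-!
# Minimal primes over an ideal in a universal etale neighbourhood, stage by stage
-/

set_option autoImplicit false
set_option linter.style.haveILetI false

universe u

open IsLocalRing

namespace Groth.Agent.Brnch93

open Groth.Agent.Hensel (Henz Nbhd)
open Groth.Agent
open Groth.Agent.AlgSpDec

theorem encard_le_of_finset {α : Type u} {s : Set α} {a : ℕ∞}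
    (h : ∀ t : Finset α, ↑t ⊆ s → (t.card : ℕ∞) ≤ a) : s.encard ≤ a := by
  by_cases hs : s.Finite
  · have := h hs.toFinset (by simp)
    rwa [← Set.encard_coe_eq_coe_finsetCard, hs.coe_toFinset] at this
  · have : a = ⊤ := ENat.eq_top_iff_forall_ge.mpr fun n => by
      obtain ⟨t, ht, rfl⟩ := Set.Infinite.exists_subset_card_eq hs n
      exact h t ht
    simp [this]

theorem comap_mem_minimalPrimes_map {S T : Type u} [CommRing S] [CommRing T] [Algebra S T]
    [Module.FaithfullyFlat S T] (J : Ideal S) {P : Ideal T} (hP : P ∈ (J.map (algebraMap S T)).minimalPrimes) :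
    P.comap (algebraMap S T) ∈ J.minimalPrimes := by
  haveI := hP.1.1
  refine ⟨⟨Ideal.IsPrime.comap _, Ideal.map_le_iff_le_comap.mp hP.1.2⟩, fun q ⟨hq, hJq⟩ hle => ?_⟩
  haveI := hq
  haveI : P.LiesOver (P.comap (algebraMap S T)) := ⟨rfl⟩
  obtain ⟨P', hP'le, hP', ho⟩ := Ideal.exists_ideal_le_liesOver_of_le (p := q) (q := P.comap (algebraMap S T)) P hle
  rw [ho.over]
  exact Ideal.comap_mono (hP.2 ⟨hP', Ideal.map_le_iff_le_comap.mpr (hJq.trans ho.over.le)⟩ hP'le)

theorem surjOn_minimalPrimes_map {S T : Type u} [CommRing S] [CommRing T] [Algebra S T]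
    [Module.FaithfullyFlat S T] (J : Ideal S) :
    Set.SurjOn (Ideal.comap (algebraMap S T)) (J.map (algebraMap S T)).minimalPrimes J.minimalPrimes := by
  intro q hq
  obtain ⟨Q, hQ⟩ := PrimeSpectrum.comap_surjective_of_faithfullyFlat (B := T) (⟨q, hq.1.1⟩ : PrimeSpectrum S)
  have hQ' : Q.asIdeal.comap (algebraMap S T) = q := congr(($hQ).asIdeal)
  obtain ⟨P, hP, hPle⟩ := Ideal.exists_minimalPrimes_le (I := J.map (algebraMap S T)) (J := Q.asIdeal)
    (Ideal.map_le_iff_le_comap.mpr (hQ'.symm ▸ hq.1.2))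
  have hle : P.comap (algebraMap S T) ≤ q := (Ideal.comap_mono hPle).trans hQ'.le
  exact ⟨P, hP, le_antisymm hle (hq.2 (comap_mem_minimalPrimes_map J hP).1 hle)⟩

variable {A K : Type u} [CommRing A] [Field K] [Algebra A K]

instance isLocalRing_stage (N : Nbhd A K) : IsLocalRing N.Stage :=
  haveI : Nontrivial N.Stage := N.ρ.toRingHom.domain_nontrivial
  .of_nonunits_add fun a b ha hb => by
    rw [mem_nonunits_iff] at *
    intro h
    have h1 : ∀ x, ¬ IsUnit x → N.ρ x = 0 := fun x hx => by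
      by_contra h0
      exact hx (N.isUnit_of_isUnit_ρ (isUnit_iff_ne_zero.2 h0))
    have h2 := h.map N.ρ
    rw [map_add, h1 a ha, h1 b hb, add_zero] at h2
    exact not_isUnit_zero h2

theorem faithfullyFlat_of (N : Nbhd A K) :
    letI := (Henz.of N).toRingHom.toAlgebra
    Module.FaithfullyFlat N.Stage (Henz A K) := by
  letI := (Henz.of N).toRingHom.toAlgebra
  letI : Algebra N.B (Henz A K) := ((Henz.of N).toRingHom.comp (algebraMap N.B N.Stage)).toAlgebra
  haveI : IsScalarTower N.B N.Stage (Henz A K) := IsScalarTower.of_algebraMap_eq' rfl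
  haveI : IsScalarTower A N.B (Henz A K) := IsScalarTower.of_algebraMap_eq fun a => by
    show algebraMap A (Henz A K) a = Henz.of N (algebraMap N.B N.Stage (algebraMap A N.B a))
    rw [← IsScalarTower.algebraMap_apply, AlgHom.commutes]
  haveI : Module.Flat N.B (Henz A K) := WEtLib.flat_of_flat (A := A) (Henz A K)
  haveI : Module.Flat N.Stage (Henz A K) := (Module.flat_iff_of_isLocalization N.Stage N.S (Henz A K)).2 inferInstance
  haveI : IsLocalHom (algebraMap N.Stage (Henz A K)) := ⟨fun x hx => N.isUnit_of_isUnit_ρ (by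
    rw [← Henz.proj_of]; exact Henz.isUnit_iff.1 hx)⟩
  exact Module.FaithfullyFlat.of_flat_of_isLocalHom

theorem map_of (N : Nbhd A K) (I : Ideal A) :
    (I.map (algebraMap A N.Stage)).map (Henz.of N).toRingHom = I.map (algebraMap A (Henz A K)) := by
  exact (Ideal.map_map _ _).trans (congrArg (Ideal.map · I) (Henz.of N).comp_algebraMap)

theorem encard_stage_le (N : Nbhd A K) (I : Ideal A) :
    (I.map (algebraMap A N.Stage)).minimalPrimes.encard ≤ (I.map (algebraMap A (Henz A K))).minimalPrimes.encard := by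
  letI := (Henz.of N).toRingHom.toAlgebra
  haveI := faithfullyFlat_of N
  rw [← map_of N I]
  exact (Set.encard_le_encard (surjOn_minimalPrimes_map (T := Henz A K) _)).trans (Set.encard_image_le _ _)

/-- Minimal primes over an ideal are computed at the finite stages. -/
theorem encard_minimalPrimes_henz (I : Ideal A) :
    (I.map (algebraMap A (Henz A K))).minimalPrimes.encard =
      ⨆ N : Nbhd A K, (I.map (algebraMap A N.Stage)).minimalPrimes.encard := by
  classical
  refine le_antisymm (encard_le_of_finset fun t ht => ?_) (iSup_le fun N => encard_stage_le N I)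
  have hsep : ∀ x : {x : Ideal (Henz A K) × Ideal (Henz A K) // x ∈ t ×ˢ t ∧ ¬ x.1 ≤ x.2},
      ∃ z, z ∈ x.1.1 ∧ z ∉ x.1.2 := fun x => SetLike.not_le_iff_exists.1 x.2.2
  choose z hz₁ hz₂ using hsep
  haveI : Fintype {x : Ideal (Henz A K) × Ideal (Henz A K) // x ∈ t ×ˢ t ∧ ¬ x.1 ≤ x.2} :=
    Fintype.ofFinset ((t ×ˢ t).filter fun x => ¬ x.1 ≤ x.2) fun x => by simp; rfl
  obtain ⟨N, -, hN⟩ := Henz.exists_of_finset (Classical.arbitrary (Nbhd A K)) (Finset.univ.image z)
  refine le_trans ?_ (le_iSup (fun N : Nbhd A K => (I.map (algebraMap A N.Stage)).minimalPrimes.encard) N)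
  letI := (Henz.of N).toRingHom.toAlgebra
  haveI := faithfullyFlat_of N
  have hinj : Set.InjOn (Ideal.comap (Henz.of N).toRingHom) (↑t : Set (Ideal (Henz A K))) := by
    intro P hP Q hQ h
    by_contra hne
    have hnle : ¬ P ≤ Q := fun hle => hne (le_antisymm hle ((ht hQ).2 (ht hP).1 hle))
    let x : {x : Ideal (Henz A K) × Ideal (Henz A K) // x ∈ t ×ˢ t ∧ ¬ x.1 ≤ x.2} :=
      ⟨(P, Q), Finset.mem_product.2 ⟨hP, hQ⟩, hnle⟩
    obtain ⟨y, hy⟩ := hN (z x) (Finset.mem_image_of_mem _ (Finset.mem_univ x))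
    have h1 : y ∈ Ideal.comap (Henz.of N).toRingHom P := by
      rw [Ideal.mem_comap, AlgHom.toRingHom_eq_coe, RingHom.coe_coe, hy]; exact hz₁ x
    rw [h, Ideal.mem_comap, AlgHom.toRingHom_eq_coe, RingHom.coe_coe, hy] at h1
    exact hz₂ x h1
  rw [← Set.encard_coe_eq_coe_finsetCard, ← hinj.encard_image]
  refine Set.encard_le_encard ?_
  rintro _ ⟨P, hP, rfl⟩
  exact comap_mem_minimalPrimes_map (T := Henz A K) _ (by
    rw [RingHom.algebraMap_toAlgebra, map_of]; exact ht hP)

end Groth.Agent.Brnch93
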