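import Groth.Agent.S9237
import Groth.Agent.S9238
import Groth.Agent.S13598
import Groth.Agent.IsoNatLib.SmoothCrit
import Groth.Agent.Hensel.HenselizationProps
import Mathlib

/-!
# Branches of a quotient from the (strict) henselization
-/

set_option autoImplicit false
set_option linter.style.haveILetI false

universe u

open IsLocalRing

namespace Groth.Agent.Brnch93

variable {R S : Type u} [CommRing R] [IsLocalRing R] [CommRing S] [IsLocalRing S] [Algebra R S]
  [IsLocalHom (algebraMap R S)] (J : Ideal R) (hJ : J ≤ maximalIdeal R)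

include hJ in
theorem map_ne_top : J.map (algebraMap R S) ≠ ⊤ := fun h =>
  (maximalIdeal.isMaximal S).ne_top (top_le_iff.mp (h ▸ Ideal.map_le_iff_le_comap.mpr (fun x hx =>
    map_nonunit (algebraMap R S) x (hJ hx))))

omit [IsLocalRing R] [IsLocalRing S] [IsLocalHom (algebraMap R S)] in
theorem encard_minimalPrimes_quotient (I : Ideal S) :
    ENat.card (minimalPrimes (S ⧸ I)) = I.minimalPrimes.encard := by
  rw [ENat.card_coe_set_eq, Ideal.minimalPrimes_eq_comap (I := I),
    (Ideal.comap_injective_of_surjective _ Ideal.Quotient.mk_surjective).injOn.encard_image]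

theorem isStrictHenselization_quotient [hS : _root_.Hensel.IsStrictHenselization R S]
    [IsLocalRing (R ⧸ J)] [IsLocalRing (S ⧸ J.map (algebraMap R S))]
    [IsLocalHom (algebraMap (R ⧸ J) (S ⧸ J.map (algebraMap R S)))] :
    _root_.Hensel.IsStrictHenselization (R ⧸ J) (S ⧸ J.map (algebraMap R S)) := by
  haveI := hS.henselian
  let q := Ideal.Quotient.mk (J.map (algebraMap R S))
  haveI : IsLocalHom q := IsLocalHom.of_surjective q Ideal.Quotient.mk_surjective
  haveI : IsLocalHom (Ideal.Quotient.mk J) := IsLocalHom.of_surjective _ Ideal.Quotient.mk_surjective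
  haveI : HenselianLocalRing (S ⧸ J.map (algebraMap R S)) :=
    Groth.Agent.IsoNatLib.henselianLocalRing_quotient _ (Ideal.Quotient.nontrivial_iff.mp inferInstance)
  let eR : ResidueField R ≃+* ResidueField (R ⧸ J) := RingEquiv.ofBijective (ResidueField.map (Ideal.Quotient.mk J))
    ⟨RingHom.injective _, fun x => by
      obtain ⟨y, rfl⟩ := residue_surjective x
      obtain ⟨r, rfl⟩ := Ideal.Quotient.mk_surjective y
      exact ⟨residue R r, rfl⟩⟩
  let eS : ResidueField S ≃+* ResidueField (S ⧸ J.map (algebraMap R S)) := RingEquiv.ofBijective (ResidueField.map q)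
    ⟨RingHom.injective _, fun x => by
      obtain ⟨y, rfl⟩ := residue_surjective x
      obtain ⟨r, rfl⟩ := Ideal.Quotient.mk_surjective y
      exact ⟨residue S r, rfl⟩⟩
  refine ⟨inferInstance, ?_, ?_⟩
  · have hc : (algebraMap (ResidueField (R ⧸ J)) (ResidueField (S ⧸ J.map (algebraMap R S)))).comp eR.toRingHom =
        eS.toRingHom.comp (algebraMap (ResidueField R) (ResidueField S)) := RingHom.ext fun x => by
      obtain ⟨r, rfl⟩ := residue_surjective x
      rfl
    haveI := hS.isSepClosure.1
    haveI := hS.isSepClosure.2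
    exact ⟨Hensel.isSepClosed_of_ringEquiv eS, Algebra.IsSeparable.of_equiv_equiv eR eS hc⟩
  · intro T _ _ f _ τ hτ
    obtain ⟨g, ⟨hg, hg'⟩, hgu⟩ := hS.universal T (f.comp (Ideal.Quotient.mk J)) (τ.comp eS.toRingHom)
      (RingHom.ext fun x => by
        obtain ⟨r, rfl⟩ := residue_surjective x
        exact RingHom.congr_fun hτ (residue (R ⧸ J) (Ideal.Quotient.mk J r)))
    have hker : ∀ x ∈ J.map (algebraMap R S), g x = 0 := fun x hx => by
      rw [← RingHom.mem_ker]
      refine (Ideal.map_le_iff_le_comap.mpr (fun r hr => ?_) : J.map (algebraMap R S) ≤ RingHom.ker g) hx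
      rw [Ideal.mem_comap, RingHom.mem_ker, ← RingHom.comp_apply, hg, RingHom.comp_apply,
        Ideal.Quotient.eq_zero_iff_mem.mpr hr, map_zero]
    refine ⟨Ideal.Quotient.lift _ g hker, ⟨Ideal.Quotient.ringHom_ext (RingHom.ext fun r => ?_), fun x => ?_⟩, fun g' hg'' => ?_⟩
    · exact RingHom.congr_fun hg r
    · obtain ⟨y, rfl⟩ := Ideal.Quotient.mk_surjective x
      exact hg' y
    · refine Ideal.Quotient.ringHom_ext ?_
      rw [Ideal.Quotient.lift_comp_mk]
      exact hgu _ ⟨RingHom.ext fun r => RingHom.congr_fun hg''.1 (Ideal.Quotient.mk J r), fun y => hg''.2 (q y)⟩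

include hJ in
theorem isLocalRing_quotient : IsLocalRing (R ⧸ J) :=
  haveI : Nontrivial (R ⧸ J) := Ideal.Quotient.nontrivial_iff.mpr fun h =>
    (maximalIdeal.isMaximal R).ne_top (top_le_iff.mp (h ▸ hJ))
  .of_surjective' (Ideal.Quotient.mk J) Ideal.Quotient.mk_surjective

include hJ in
theorem encard_minimalPrimes_map_strictHenselization [_root_.Hensel.IsStrictHenselization R S] [IsLocalRing (R ⧸ J)] :
    (J.map (algebraMap R S)).minimalPrimes.encard = Brnch.numGeomBranches (R ⧸ J) := by
  haveI : Nontrivial (S ⧸ J.map (algebraMap R S)) := Ideal.Quotient.nontrivial_iff.mpr (map_ne_top J hJ)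
  haveI := IsLocalRing.of_surjective' (Ideal.Quotient.mk (J.map (algebraMap R S))) Ideal.Quotient.mk_surjective
  haveI : IsLocalHom (algebraMap (R ⧸ J) (S ⧸ J.map (algebraMap R S))) := ⟨fun x hx => by
    obtain ⟨r, rfl⟩ := Ideal.Quotient.mk_surjective x
    haveI : IsLocalHom (Ideal.Quotient.mk (J.map (algebraMap R S))) :=
      IsLocalHom.of_surjective _ Ideal.Quotient.mk_surjective
    exact (isUnit_of_map_unit (algebraMap R S) r
      (isUnit_of_map_unit (Ideal.Quotient.mk (J.map (algebraMap R S))) _ hx)).map _⟩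
  haveI := isStrictHenselization_quotient (S := S) J
  rw [← S9238.result (R ⧸ J) (S ⧸ J.map (algebraMap R S)), encard_minimalPrimes_quotient]

include hJ in
theorem encard_minimalPrimes_map_henselization [_root_.Hensel.IsHenselization R S] [IsLocalRing (R ⧸ J)] :
    (J.map (algebraMap R S)).minimalPrimes.encard = Brnch.numBranches (R ⧸ J) := by
  haveI : Nontrivial (S ⧸ J.map (algebraMap R S)) := Ideal.Quotient.nontrivial_iff.mpr (map_ne_top J hJ)
  haveI := IsLocalRing.of_surjective' (Ideal.Quotient.mk (J.map (algebraMap R S))) Ideal.Quotient.mk_surjective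
  haveI : IsLocalHom (algebraMap (R ⧸ J) (S ⧸ J.map (algebraMap R S))) := ⟨fun x hx => by
    obtain ⟨r, rfl⟩ := Ideal.Quotient.mk_surjective x
    haveI : IsLocalHom (Ideal.Quotient.mk (J.map (algebraMap R S))) :=
      IsLocalHom.of_surjective _ Ideal.Quotient.mk_surjective
    exact (isUnit_of_map_unit (algebraMap R S) r
      (isUnit_of_map_unit (Ideal.Quotient.mk (J.map (algebraMap R S))) _ hx)).map _⟩
  haveI := S13598.result (S := S) J hJ
  rw [← S9237.result (R ⧸ J) (S ⧸ J.map (algebraMap R S)), encard_minimalPrimes_quotient]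

end Groth.Agent.Brnch93
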