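import Groth.Agent.Brnch93.Core
import Groth.Agent.Brnch93.Quot
import Groth.Agent.Hensel.NbhdPoints
import Mathlib

/-!
# Branches of a local ring modulo an ideal, from the etale algebras around it
-/

set_option autoImplicit false
set_option linter.style.haveILetI false

universe u

open IsLocalRing

namespace Groth.Agent.Brnch93

open Groth.Agent.Hensel (Henz Nbhd LocalHenz)
open Groth.Agent
open Groth.Agent.AlgSpDec

theorem encard_minimalPrimes_equiv {S T : Type u} [CommRing S] [CommRing T] (e : S ≃+* T) (I : Ideal S) :
    (I.map (e : S →+* T)).minimalPrimes.encard = I.minimalPrimes.encard := by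
  rw [Ideal.map_comap_of_equiv e]
  show (Ideal.comap (e.symm : T →+* S) I).minimalPrimes.encard = _
  rw [Ideal.comap_minimalPrimes_eq_of_surjective (f := (e.symm : T →+* S)) e.symm.surjective]
  exact (Ideal.comap_injective_of_surjective (e.symm : T →+* S) e.symm.surjective).injOn.encard_image

/-- An equivalent ring, as a henselization. -/
theorem isHenselization_of_ringEquiv {R R' H : Type u} [CommRing R] [IsLocalRing R] [CommRing R'] [IsLocalRing R']
    (σ : R ≃+* R') [CommRing H] [IsLocalRing H] [Algebra R' H] [IsLocalHom (algebraMap R' H)]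
    [hH : _root_.Hensel.IsHenselization R' H] :
    letI : Algebra R H := ((algebraMap R' H).comp σ.toRingHom).toAlgebra
    ∃ _ : IsLocalHom (algebraMap R H), _root_.Hensel.IsHenselization R H := by
  letI : Algebra R H := ((algebraMap R' H).comp σ.toRingHom).toAlgebra
  haveI : IsLocalHom σ.toRingHom := ⟨fun a ha => (isUnit_map_iff σ a).1 ha⟩
  haveI hl : IsLocalHom (algebraMap R H) := RingHom.isLocalHom_comp (algebraMap R' H) σ.toRingHom
  refine ⟨hl, hH.henselian, fun T _ _ f hf => ?_⟩
  haveI : IsLocalHom σ.symm.toRingHom := ⟨fun a ha => (isUnit_map_iff σ.symm a).1 ha⟩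
  obtain ⟨g, hg, hgu⟩ := hH.universal T (f.comp σ.symm.toRingHom) inferInstance
  refine ⟨g, RingHom.ext fun r => ?_, fun g' hg' => hgu g' (RingHom.ext fun r => ?_)⟩
  · show g (algebraMap R' H (σ r)) = f r
    rw [← RingHom.comp_apply, hg]
    simp
  · show g' (algebraMap R' H r) = f (σ.symm r)
    rw [← hg']
    exact congrArg (fun z => g' (algebraMap R' H z)) (σ.apply_symm_apply r).symm

variable {A : Type u} [CommRing A] (p : Ideal A) [p.IsPrime] (R : Type u) [CommRing R] [IsLocalRing R] [Algebra A R]
  [IsLocalization.AtPrime R p] (J : Ideal R)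

include p in
theorem map_comap_eq : (J.comap (algebraMap A R)).map (algebraMap A R) = J :=
  IsLocalization.map_under p.primeCompl R J

/-- The count for an algebraically closed residue field. -/
theorem encard_henz_algClosure (hJ : J ≤ maximalIdeal R) [IsLocalRing (R ⧸ J)] :
    ((J.comap (algebraMap A R)).map (algebraMap A (Henz A (AlgebraicClosure p.ResidueField)))).minimalPrimes.encard =
      Brnch.numGeomBranches (R ⧸ J) := by
  let K := AlgebraicClosure p.ResidueField
  have hu : ∀ s : p.primeCompl, IsUnit (algebraMap A K s) := fun s => by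
    rw [IsScalarTower.algebraMap_apply A p.ResidueField K, isUnit_iff_ne_zero, Ne, map_eq_zero,
      Ideal.algebraMap_residueField_eq_zero]
    exact s.2
  letI : Algebra R K := (IsLocalization.lift (M := p.primeCompl) (g := algebraMap A K) hu).toAlgebra
  haveI : IsScalarTower A R K := IsScalarTower.of_algebraMap_eq fun a => (IsLocalization.lift_eq hu a).symm
  haveI : IsLocalHom (algebraMap R K) := ⟨fun r hr => by
    obtain ⟨a, s, rfl⟩ := IsLocalization.exists_mk'_eq p.primeCompl r
    have hspec := congrArg (algebraMap R K) (IsLocalization.mk'_spec R a s)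
    rw [map_mul, ← IsScalarTower.algebraMap_apply, ← IsScalarTower.algebraMap_apply] at hspec
    have ha : a ∈ p.primeCompl := fun ha => by
      have h0 : algebraMap A K a = 0 := by
        rw [IsScalarTower.algebraMap_apply A p.ResidueField K, Ideal.algebraMap_residueField_eq_zero.2 ha, map_zero]
      rw [h0] at hspec
      exact mul_ne_zero hr.ne_zero (hu s).ne_zero hspec
    refine isUnit_of_mul_isUnit_left (y := algebraMap A R s) ?_
    rw [IsLocalization.mk'_spec]; exact IsLocalization.map_units R ⟨a, ha⟩⟩
  letI := (EtHenz.fromLocal A R K p.primeCompl).toRingHom.toAlgebra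
  obtain ⟨hl, hs⟩ := EtHenz.isStrictHenselization A R K p.primeCompl
  haveI := hl
  haveI := hs
  rw [← encard_minimalPrimes_map_strictHenselization (S := Henz A K) J hJ]
  conv_rhs => rw [← map_comap_eq p R J, Ideal.map_map]
  congr 3
  exact (EtHenz.fromLocal A R K p.primeCompl).comp_algebraMap.symm

/-- The count for the residue field. -/
theorem encard_henz_residueField (hJ : J ≤ maximalIdeal R) [IsLocalRing (R ⧸ J)] :
    ((J.comap (algebraMap A R)).map (algebraMap A (Henz A p.ResidueField))).minimalPrimes.encard =
      Brnch.numBranches (R ⧸ J) := by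
  let Rp := Localization.AtPrime p
  let H := LocalHenz Rp
  letI : Algebra A H := ((algebraMap Rp H).comp (algebraMap A Rp)).toAlgebra
  haveI : IsScalarTower A Rp H := IsScalarTower.of_algebraMap_eq' rfl
  obtain ⟨e, -⟩ := Hensel.exists_algEquiv_henz_residueField A p H
  let σ : R ≃ₐ[A] Rp := IsLocalization.algEquiv p.primeCompl R Rp
  letI : Algebra R H := ((algebraMap Rp H).comp σ.toRingEquiv.toRingHom).toAlgebra
  obtain ⟨hl, hs⟩ := isHenselization_of_ringEquiv (H := H) σ.toRingEquiv
  haveI := hl
  haveI := hs
  rw [← encard_minimalPrimes_map_henselization (S := H) J hJ, ← encard_minimalPrimes_equiv e.toRingEquiv]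
  conv_rhs => rw [← map_comap_eq p R J, Ideal.map_map]
  rw [Ideal.map_map]
  congr 3
  refine RingHom.ext fun a => ?_
  show e (algebraMap A _ a) = algebraMap Rp H (σ (algebraMap A R a))
  rw [AlgEquiv.commutes, AlgEquiv.commutes, ← IsScalarTower.algebraMap_apply]

variable {R} {S : Type u} [CommRing S] [IsLocalRing S] (φ : R →+* S) {B : Type u} [CommRing B] [Algebra A B]
  [Algebra.Etale A B] (ι : B →+* S)
  (hloc : letI := ι.toAlgebra; IsLocalization.AtPrime S ((maximalIdeal S).comap ι))
  (hφ : φ.comp (algebraMap A R) = ι.comp (algebraMap A B))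

include hloc hφ p

/-- An etale algebra with a point in `K` contributes at most the count of `K`. -/
theorem encard_le_henz {K : Type u} [Field K] [Algebra A K] (τ : B →ₐ[A] K)
    (hτ : RingHom.ker τ = (maximalIdeal S).comap ι) :
    (J.map φ).minimalPrimes.encard ≤
      ((J.comap (algebraMap A R)).map (algebraMap A (Henz A K))).minimalPrimes.encard := by
  obtain ⟨N, e, hN⟩ := Nbhd.exists_equiv B τ
  letI := ι.toAlgebra
  haveI := hloc
  have hM : ((maximalIdeal S).comap ι).primeCompl.map e.symm.toRingEquiv.toMonoidHom = N.S := by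
    ext x
    rw [Submonoid.mem_map]
    constructor
    · rintro ⟨b, hb, rfl⟩
      show IsUnit (N.toK (e.symm b))
      rw [hN, AlgHom.comp_apply, isUnit_iff_ne_zero]
      intro h
      refine hb ?_
      rw [SetLike.mem_coe, ← hτ, RingHom.mem_ker]
      simpa using h
    · intro hx
      refine ⟨e x, fun h => ?_, e.symm_apply_apply x⟩
      rw [SetLike.mem_coe, ← hτ, RingHom.mem_ker] at h
      have : IsUnit (N.toK x) := hx
      rw [hN] at this
      exact not_isUnit_zero (h ▸ this)
  let E : S ≃+* N.Stage := IsLocalization.ringEquivOfRingEquiv S N.Stage e.symm.toRingEquiv hM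
  refine le_trans (le_of_eq ?_) (encard_stage_le N _)
  conv_lhs => rw [← map_comap_eq p R J, Ideal.map_map, hφ]
  rw [← encard_minimalPrimes_equiv E, Ideal.map_map]
  congr 3
  refine RingHom.ext fun a => ?_
  show E (algebraMap B S (algebraMap A B a)) = algebraMap A N.Stage a
  rw [IsLocalization.ringEquivOfRingEquiv_eq, IsScalarTower.algebraMap_apply A N.B N.Stage]
  exact congrArg _ (e.symm.commutes a)

/-- An etale algebra over the prime has a point in the algebraic closure of the residue field. -/
theorem exists_point_algClosure [IsLocalHom φ] :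
    ∃ τ : B →ₐ[A] AlgebraicClosure p.ResidueField, RingHom.ker τ = (maximalIdeal S).comap ι := by
  let q := (maximalIdeal S).comap ι
  haveI : q.LiesOver p := ⟨by
    ext a
    rw [Ideal.under_def, Ideal.mem_comap, Ideal.mem_comap, ← RingHom.comp_apply, ← hφ, RingHom.comp_apply,
      mem_maximalIdeal, mem_nonunits_iff, isUnit_map_iff, IsLocalization.AtPrime.isUnit_to_map_iff R p,
      Ideal.mem_primeCompl_iff, not_not]⟩
  letI := Localization.AtPrime.algebraOfLiesOver p q
  let K := AlgebraicClosure p.ResidueField
  let σ : q.ResidueField →ₐ[p.ResidueField] K := IsAlgClosed.lift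
  refine ⟨(σ.restrictScalars A).comp (IsScalarTower.toAlgHom A B q.ResidueField), ?_⟩
  ext b
  rw [RingHom.mem_ker, AlgHom.comp_apply, AlgHom.restrictScalars_apply, IsScalarTower.toAlgHom_apply, map_eq_zero,
    Ideal.algebraMap_residueField_eq_zero]

/-- An elementary etale algebra has a point in the residue field. -/
theorem exists_point_residueField [IsLocalHom φ] (hres : Function.Bijective (ResidueField.map φ)) :
    ∃ τ : B →ₐ[A] p.ResidueField, RingHom.ker τ = (maximalIdeal S).comap ι := by
  let f : p.ResidueField →+* ResidueField R := Ideal.ResidueField.lift p ((residue R).comp (algebraMap A R))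
    (fun a ha => by
      rw [RingHom.mem_ker, RingHom.comp_apply, residue_eq_zero_iff, mem_maximalIdeal, mem_nonunits_iff,
        IsLocalization.AtPrime.isUnit_to_map_iff R p, Ideal.mem_primeCompl_iff, not_not]
      exact ha)
    (fun a ha => (residue R).isUnit_map ((IsLocalization.AtPrime.isUnit_to_map_iff R p a).2 ha))
  have hf : ∀ a, f (algebraMap A p.ResidueField a) = residue R (algebraMap A R a) := fun a =>
    Ideal.ResidueField.lift_algebraMap p _ _ _ a
  have hfbij : Function.Bijective f := ⟨f.injective, fun y => by
    obtain ⟨r, rfl⟩ := residue_surjective y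
    obtain ⟨a, s, rfl⟩ := IsLocalization.exists_mk'_eq p.primeCompl r
    refine ⟨algebraMap A p.ResidueField a / algebraMap A p.ResidueField s, ?_⟩
    rw [map_div₀, hf, hf, div_eq_iff ((residue_ne_zero_iff_isUnit _).2 (IsLocalization.map_units R s)), ← map_mul,
      IsLocalization.mk'_spec]⟩
  let e := (RingEquiv.ofBijective f hfbij).trans (RingEquiv.ofBijective _ hres)
  have he : ∀ a, e (algebraMap A p.ResidueField a) = residue S (ι (algebraMap A B a)) := fun a => by
    show ResidueField.map φ (f (algebraMap A p.ResidueField a)) = _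
    rw [hf, ResidueField.map_residue, ← RingHom.comp_apply φ, hφ, RingHom.comp_apply]
  refine ⟨{ e.symm.toRingHom.comp ((residue S).comp ι) with
    commutes' := fun a => e.symm_apply_eq.2 (he a).symm }, ?_⟩
  ext b
  rw [RingHom.mem_ker, Ideal.mem_comap]
  show e.symm (residue S (ι b)) = 0 ↔ _
  rw [map_eq_zero_iff _ e.symm.injective, residue_eq_zero_iff]

end Groth.Agent.Brnch93
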