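import Groth.Agent.Brnch93.Scheme
import Groth.Agent.LA96.FibreStalk
import Groth.Agent.S0537
import Groth.Agent.S9235
import Groth.Agent.S9236
import Groth.Prelude.Def_Brnch
import Mathlib

/-!
# Branches of a scheme and of a fibre at a point from etale neighbourhoods
-/

set_option autoImplicit false
set_option linter.style.haveILetI false

universe u

open CategoryTheory AlgebraicGeometry IsLocalRing TopologicalSpace

namespace Groth.Agent.Brnch93

open Groth.Agent

/-- Branch numbers are invariant under isomorphism. -/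
theorem numBranches_of_ringEquiv {A B : Type u} [CommRing A] [IsLocalRing A] [CommRing B] [IsLocalRing B]
    (σ : A ≃+* B) : Brnch.numBranches A = Brnch.numBranches B := by
  let H := Hensel.LocalHenz B
  letI : Algebra A H := ((algebraMap B H).comp σ.toRingHom).toAlgebra
  obtain ⟨hl, hs⟩ := isHenselization_of_ringEquiv (H := H) σ
  haveI := hl
  haveI := hs
  rw [← S9237.result A H, ← S9237.result B H]

theorem numGeomBranches_of_ringEquiv {A B : Type u} [CommRing A] [IsLocalRing A] [CommRing B] [IsLocalRing B]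
    (σ : A ≃+* B) : Brnch.numGeomBranches A = Brnch.numGeomBranches B := by
  obtain ⟨H, _, _, _, _, hH⟩ := S0537.result B
  letI : Algebra A H := ((algebraMap B H).comp σ.toRingHom).toAlgebra
  haveI : IsLocalHom σ.toRingHom := ⟨fun a ha => (isUnit_map_iff σ a).1 ha⟩
  haveI : IsLocalHom σ.symm.toRingHom := ⟨fun a ha => (isUnit_map_iff σ.symm a).1 ha⟩
  haveI hl : IsLocalHom (algebraMap A H) := RingHom.isLocalHom_comp (algebraMap B H) σ.toRingHom
  have hc : (algebraMap (ResidueField B) (ResidueField H)).comp (ResidueField.mapEquiv σ).toRingHom =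
      (RingEquiv.refl (ResidueField H)).toRingHom.comp (algebraMap (ResidueField A) (ResidueField H)) :=
    RingHom.ext fun y => by
      obtain ⟨a, rfl⟩ := residue_surjective y
      rfl
  haveI := hH.isSepClosure.1
  haveI := hH.isSepClosure.2
  haveI : _root_.Hensel.IsStrictHenselization A H := by
    refine ⟨hH.henselian, ⟨hH.isSepClosure.1, Algebra.IsSeparable.of_equiv_equiv (ResidueField.mapEquiv σ).symm
      (RingEquiv.refl _) ?_⟩, ?_⟩
    · refine RingHom.ext fun y => ?_
      obtain ⟨b, rfl⟩ := residue_surjective y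
      show residue H (algebraMap B H (σ (σ.symm b))) = residue H (algebraMap B H b)
      rw [σ.apply_symm_apply]
    · intro T _ _ f _ τ hτ
      obtain ⟨g, ⟨hg, hg'⟩, hgu⟩ := hH.universal T (f.comp σ.symm.toRingHom) τ (RingHom.ext fun y => by
        obtain ⟨b, rfl⟩ := residue_surjective y
        have := RingHom.congr_fun hτ (residue A (σ.symm b))
        show τ (residue H (algebraMap B H b)) = residue T (f (σ.symm b))
        rw [show algebraMap B H b = algebraMap A H (σ.symm b) from congrArg (algebraMap B H) (σ.apply_symm_apply b).symm]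
        exact this)
      refine ⟨g, ⟨RingHom.ext fun a => ?_, hg'⟩, fun g' hg'' => hgu g' ⟨RingHom.ext fun b => ?_, hg''.2⟩⟩
      · show g (algebraMap B H (σ a)) = f a
        rw [← RingHom.comp_apply, hg]
        simp
      · show g' (algebraMap B H b) = f (σ.symm b)
        rw [← hg''.1]
        exact congrArg (fun z => g' (algebraMap B H z)) (σ.apply_symm_apply b).symm
  rw [← S9238.result A H, ← S9238.result B H]

/-- Irreducible components of a subspace through a point, as minimal primes of the local ring. -/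
theorem encard_components_through {U F : Scheme.{u}} (u : U) (ι : F → U) (hι : Topology.IsEmbedding ι)
    (J : Ideal (U.presheaf.stalk u))
    (hJ : ∀ P : PrimeSpectrum (U.presheaf.stalk u), J ≤ P.asIdeal ↔ U.fromSpecStalk u P ∈ Set.range ι) :
    {Z : Set F | Z ∈ irreducibleComponents F ∧ ∃ u' ∈ Z, ι u' = u}.encard = J.minimalPrimes.encard := by
  have hemb := (U.fromSpecStalk u).isEmbedding
  have hrange : ∀ y : U, y ⤳ u → ∃ P : PrimeSpectrum (U.presheaf.stalk u), U.fromSpecStalk u P = y := fun y hy => by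
    have : y ∈ Set.range (U.fromSpecStalk u) := by rw [Scheme.range_fromSpecStalk]; exact hy
    exact this
  have hto : ∀ P : PrimeSpectrum (U.presheaf.stalk u), U.fromSpecStalk u P ⤳ u := fun P => by
    have : U.fromSpecStalk u P ∈ Set.range (U.fromSpecStalk u) := ⟨P, rfl⟩
    rwa [Scheme.range_fromSpecStalk] at this
  have hspec : ∀ P Q : PrimeSpectrum (U.presheaf.stalk u),
      P.asIdeal ≤ Q.asIdeal ↔ U.fromSpecStalk u P ⤳ U.fromSpecStalk u Q := fun P Q => by
    exact (PrimeSpectrum.asIdeal_le_asIdeal P Q).trans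
      ((PrimeSpectrum.le_iff_specializes P Q).trans hemb.isInducing.specializes_iff.symm)
  have hmk : ∀ P : J.minimalPrimes, ∃ η : F, ι η = U.fromSpecStalk u ⟨P.1, P.2.1.1⟩ := fun P =>
    (hJ ⟨P.1, P.2.1.1⟩).1 P.2.1.2
  choose η hη using hmk
  rw [← ENat.card_coe_set_eq, ← ENat.card_coe_set_eq]
  refine (ENat.card_congr (Equiv.ofBijective (fun P : J.minimalPrimes => (⟨closure {η P}, ?_, ?_⟩ :
    {Z : Set F | Z ∈ irreducibleComponents F ∧ ∃ u' ∈ Z, ι u' = u})) ⟨fun P Q h => ?_, fun Z => ?_⟩)).symm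
  · obtain ⟨C, hC, hsub⟩ := exists_mem_irreducibleComponents_subset_of_isIrreducible
      (closure {η P}) isIrreducible_singleton.closure
    obtain ⟨ζ, hζ⟩ := QuasiSober.sober hC.1 (isClosed_of_mem_irreducibleComponents C hC)
    have h1 : ι ζ ⤳ ι (η P) := (hζ.specializes (hsub (subset_closure rfl))).map hι.continuous
    obtain ⟨P', hP'⟩ := hrange (ι ζ) (h1.trans (by rw [hη]; exact hto _))
    have hle : P'.asIdeal ≤ P.1 := (hspec P' ⟨P.1, P.2.1.1⟩).2 (by rw [hP', ← hη]; exact h1)
    have hge : P.1 ≤ P'.asIdeal := P.2.2 ⟨P'.2, (hJ P').2 ⟨ζ, hP'.symm⟩⟩ hle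
    have : ζ = η P := hι.injective (by
      rw [← hP', hη]
      exact congrArg _ (PrimeSpectrum.ext (le_antisymm hle hge)))
    rw [show closure {η P} = C from this ▸ hζ]
    exact hC
  · haveI := P.2.1.1
    obtain ⟨u', hu'⟩ := (hJ (closedPoint _)).1 (P.2.1.2.trans (le_maximalIdeal P.2.1.1.ne_top))
    rw [Scheme.fromSpecStalk_closedPoint] at hu'
    refine ⟨u', ?_, hu'⟩
    rw [← specializes_iff_mem_closure, ← hι.isInducing.specializes_iff, hu', hη]
    exact hto _
  · have h1 : η P = η Q := by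
      have h' : closure {η P} = closure {η Q} := congrArg Subtype.val h
      exact ((specializes_iff_closure_subset.2 h'.ge).antisymm (specializes_iff_closure_subset.2 h'.le)).eq
    have h2 := congrArg ι h1
    rw [hη, hη] at h2
    exact Subtype.ext (congrArg PrimeSpectrum.asIdeal (hemb.injective h2))
  · obtain ⟨Z, hZ, u', hu'Z, hu'⟩ := Z
    obtain ⟨ζ, hζ⟩ := QuasiSober.sober hZ.1 (isClosed_of_mem_irreducibleComponents Z hZ)
    have h1 : ι ζ ⤳ u := hu' ▸ (hζ.specializes hu'Z).map hι.continuous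
    obtain ⟨P, hP⟩ := hrange (ι ζ) h1
    have hmin : P.asIdeal ∈ J.minimalPrimes := ⟨⟨P.2, (hJ P).2 ⟨ζ, hP.symm⟩⟩, fun Q ⟨hQ, hJQ⟩ hle => by
      obtain ⟨z, hz⟩ := (hJ ⟨Q, hQ⟩).1 hJQ
      have h2 : z ⤳ ζ := hι.isInducing.specializes_iff.1 (by rw [hz, ← hP]; exact (hspec ⟨Q, hQ⟩ P).1 hle)
      have h3 : Z ⊆ closure {z} := hζ ▸ specializes_iff_closure_subset.1 h2
      have h4 : ζ ⤳ z := hζ.specializes (hZ.2 isIrreducible_singleton.closure h3 (subset_closure rfl))
      have h5 := h4.map hι.continuous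
      rw [hz, ← hP] at h5
      exact (hspec P ⟨Q, hQ⟩).2 h5⟩
    refine ⟨⟨P.asIdeal, hmin⟩, Subtype.ext ?_⟩
    have : η ⟨P.asIdeal, hmin⟩ = ζ := hι.injective ((hη _).trans hP)
    show closure {η ⟨P.asIdeal, hmin⟩} = Z
    rw [this]
    exact hζ

theorem encard_components_point {U : Scheme.{u}} (u : U) :
    {Z : Set U | Z ∈ irreducibleComponents U ∧ u ∈ Z}.encard = (minimalPrimes (U.presheaf.stalk u)).encard := by
  have h := encard_components_through u id Topology.IsEmbedding.id ⊥ fun P => by simp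
  rw [minimalPrimes]
  rw [← h]
  congr 1
  ext Z
  simp

variable (X : Scheme.{u}) (x : X)

theorem numBranchesAt_eq_iSup :
    Brnch.numBranchesAt X x = ⨆ (U : Scheme.{u}) (g : U ⟶ X) (u : U) (_ : Hens2.IsEtaleNbhd g u x),
      {Z : Set ↑U | Z ∈ irreducibleComponents ↑U ∧ u ∈ Z}.encard := by
  haveI := isLocalRing_quotient (⊥ : Ideal (X.presheaf.stalk x)) bot_le
  have h := numBranches_eq_iSup (⊥ : Ideal (X.presheaf.stalk x)) bot_le
  rw [numBranches_of_ringEquiv (RingEquiv.quotientBot (X.presheaf.stalk x))] at h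
  rw [Brnch.numBranchesAt, h]
  refine iSup_congr fun U => iSup_congr fun g => iSup_congr fun u => iSup_congr fun _ => ?_
  rw [Ideal.map_bot, encard_components_point, minimalPrimes]

theorem numGeomBranchesAt_eq_iSup :
    Brnch.numGeomBranchesAt X x = ⨆ (U : Scheme.{u}) (g : U ⟶ X) (u : U) (_ : Etale g ∧ g u = x),
      {Z : Set ↑U | Z ∈ irreducibleComponents ↑U ∧ u ∈ Z}.encard := by
  haveI := isLocalRing_quotient (⊥ : Ideal (X.presheaf.stalk x)) bot_le
  have h := numGeomBranches_eq_iSup (⊥ : Ideal (X.presheaf.stalk x)) bot_le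
  rw [numGeomBranches_of_ringEquiv (RingEquiv.quotientBot (X.presheaf.stalk x))] at h
  rw [Brnch.numGeomBranchesAt, h]
  refine iSup_congr fun U => iSup_congr fun g => iSup_congr fun u => iSup_congr fun _ => ?_
  rw [Ideal.map_bot, encard_components_point, minimalPrimes]

variable {X} {S : Scheme.{u}} (f : X ⟶ S)

theorem encard_fibre_components {U : Scheme.{u}} (g : U ⟶ X) (u : U) (h : g u = x) :
    {Z : Set ↑((g ≫ f).fiber (f x)) | Z ∈ irreducibleComponents ↑((g ≫ f).fiber (f x)) ∧
        ∃ u' ∈ Z, (g ≫ f).fiberι (f x) u' = u}.encard =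
      (((maximalIdeal (S.presheaf.stalk (f x))).map (f.stalkMap x).hom).map (phi g u h).hom).minimalPrimes.encard := by
  subst h
  refine encard_components_through u _ ((g ≫ f).fiberι _).isEmbedding _ fun P => ?_
  rw [phi_rfl, Ideal.map_map, Scheme.Hom.range_fiberι, Set.mem_preimage, Set.mem_singleton_iff,
    ← CommRingCat.hom_comp, ← Scheme.Hom.stalkMap_comp, Ideal.map_le_iff_le_comap]
  have hnat : (g ≫ f) (U.fromSpecStalk u P) =
      S.fromSpecStalk ((g ≫ f) u) (Spec.map ((g ≫ f).stalkMap u) P) := by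
    exact congrArg (fun m : Spec (U.presheaf.stalk u) ⟶ S => m P)
      (Scheme.SpecMap_stalkMap_fromSpecStalk (g ≫ f) (x := u)).symm
  rw [hnat]
  show _ ↔ S.fromSpecStalk ((g ≫ f) u) (Spec.map ((g ≫ f).stalkMap u) P) = (g ≫ f) u
  constructor
  · intro hle
    have : Spec.map ((g ≫ f).stalkMap u) P = closedPoint (S.presheaf.stalk ((g ≫ f) u)) :=
      PrimeSpectrum.ext ((maximalIdeal.isMaximal _).eq_of_le (Ideal.IsPrime.ne_top inferInstance) hle).symm
    rw [this, Scheme.fromSpecStalk_closedPoint]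
  · intro he
    have : Spec.map ((g ≫ f).stalkMap u) P = closedPoint (S.presheaf.stalk ((g ≫ f) u)) :=
      (S.fromSpecStalk _).isEmbedding.injective (he.trans (Scheme.fromSpecStalk_closedPoint).symm)
    exact (congrArg PrimeSpectrum.asIdeal this).ge

theorem map_maximalIdeal_stalkMap_le :
    (maximalIdeal (S.presheaf.stalk (f x))).map (f.stalkMap x).hom ≤ maximalIdeal (X.presheaf.stalk x) :=
  Ideal.map_le_iff_le_comap.2 fun r hr => map_nonunit (f.stalkMap x).hom r hr

theorem numGeomBranchesAt_fibre_eq_iSup :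
    Brnch.numGeomBranchesAt (f.fiber (f x)) (f.asFiber x) =
      ⨆ (U : Scheme.{u}) (g : U ⟶ X) (u : U) (_ : Etale g ∧ g u = x),
        {Z : Set ↑((g ≫ f).fiber (f x)) | Z ∈ irreducibleComponents ↑((g ≫ f).fiber (f x)) ∧
          ∃ u' ∈ Z, (g ≫ f).fiberι (f x) u' = u}.encard := by
  obtain ⟨e⟩ := LA96.exists_fiberStalkEquiv f x
  haveI := isLocalRing_quotient _ (map_maximalIdeal_stalkMap_le x f)
  rw [Brnch.numGeomBranchesAt, ← numGeomBranches_of_ringEquiv e, numGeomBranches_eq_iSup _ (map_maximalIdeal_stalkMap_le x f)]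
  exact iSup_congr fun U => iSup_congr fun g => iSup_congr fun u => iSup_congr fun h =>
    (encard_fibre_components x f g u h.2).symm

theorem numBranchesAt_fibre_eq_iSup :
    Brnch.numBranchesAt (f.fiber (f x)) (f.asFiber x) =
      ⨆ (U : Scheme.{u}) (g : U ⟶ X) (u : U) (_ : Hens2.IsEtaleNbhd g u x),
        {Z : Set ↑((g ≫ f).fiber (f x)) | Z ∈ irreducibleComponents ↑((g ≫ f).fiber (f x)) ∧
          ∃ u' ∈ Z, (g ≫ f).fiberι (f x) u' = u}.encard := by
  obtain ⟨e⟩ := LA96.exists_fiberStalkEquiv f x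
  haveI := isLocalRing_quotient _ (map_maximalIdeal_stalkMap_le x f)
  rw [Brnch.numBranchesAt, ← numBranches_of_ringEquiv e, numBranches_eq_iSup _ (map_maximalIdeal_stalkMap_le x f)]
  exact iSup_congr fun U => iSup_congr fun g => iSup_congr fun u => iSup_congr fun h =>
    (encard_fibre_components x f g u h.base_eq).symm

variable (X)

theorem one_le_encard {U : Scheme.{u}} (u : U) : 1 ≤ {Z : Set ↑U | Z ∈ irreducibleComponents ↑U ∧ u ∈ Z}.encard :=
  Set.one_le_encard_iff_nonempty.2 ⟨irreducibleComponent u, irreducibleComponent_mem_irreducibleComponents u,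
    mem_irreducibleComponent⟩

theorem isGeomUnibranch_stalk_iff :
    CAlg2.IsGeomUnibranch ↑(X.presheaf.stalk x) ↔ ∀ (U : Scheme.{u}) (g : U ⟶ X) (u : U), Etale g → g u = x →
      {Z : Set ↑U | Z ∈ irreducibleComponents ↑U ∧ u ∈ Z}.encard = 1 := by
  rw [← S9236.result, ← Brnch.numGeomBranchesAt, numGeomBranchesAt_eq_iSup]
  constructor
  · intro h U g u hg hu
    refine le_antisymm ?_ (one_le_encard u)
    rw [← h]
    exact le_iSup_of_le U (le_iSup_of_le g (le_iSup_of_le u (le_iSup_of_le ⟨hg, hu⟩ le_rfl)))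
  · intro h
    refine le_antisymm (iSup_le fun U => iSup_le fun g => iSup_le fun u => iSup_le fun hu => (h U g u hu.1 hu.2).le) ?_
    exact le_trans (one_le_encard x)
      (le_iSup_of_le X (le_iSup_of_le (𝟙 X) (le_iSup_of_le x (le_iSup_of_le ⟨inferInstance, rfl⟩ le_rfl))))

theorem isUnibranch_stalk_iff :
    CAlg2.IsUnibranch ↑(X.presheaf.stalk x) ↔ ∀ (U : Scheme.{u}) (g : U ⟶ X) (u : U), Hens2.IsEtaleNbhd g u x →
      {Z : Set ↑U | Z ∈ irreducibleComponents ↑U ∧ u ∈ Z}.encard = 1 := by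
  rw [← S9235.result, ← Brnch.numBranchesAt, numBranchesAt_eq_iSup]
  constructor
  · intro h U g u hu
    refine le_antisymm ?_ (one_le_encard u)
    rw [← h]
    exact le_iSup_of_le U (le_iSup_of_le g (le_iSup_of_le u (le_iSup_of_le hu le_rfl)))
  · intro h
    refine le_antisymm (iSup_le fun U => iSup_le fun g => iSup_le fun u => iSup_le fun hu => (h U g u hu).le) ?_
    have hid : Hens2.IsEtaleNbhd (𝟙 X) x x := ⟨inferInstance, rfl, by
      haveI : IsIso ((𝟙 X : X ⟶ X).residueFieldMap x) := by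
        rw [Scheme.residueFieldMap_id]; exact IsIso.id _
      exact ConcreteCategory.bijective_of_isIso ((𝟙 X : X ⟶ X).residueFieldMap x)⟩
    exact le_trans (one_le_encard x)
      (le_iSup_of_le X (le_iSup_of_le (𝟙 X) (le_iSup_of_le x (le_iSup_of_le hid le_rfl))))

end Groth.Agent.Brnch93
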