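import Groth.Agent.Brnch93.Local
import Groth.Prelude.Def_Hens2
import Mathlib

/-!
# Branches modulo an ideal of the stalk, from etale neighbourhoods
-/

set_option autoImplicit false
set_option linter.style.haveILetI false

universe u

open CategoryTheory AlgebraicGeometry IsLocalRing TopologicalSpace

namespace Groth.Agent.Brnch93

open Groth.Agent.Hensel (Henz Nbhd)
open Groth.Agent

variable {X : Scheme.{u}} {x : X}

/-- The map of local rings of a neighbourhood. -/
noncomputable def phi {U : Scheme.{u}} (g : U ⟶ X) (u : U) (h : g u = x) :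
    X.presheaf.stalk x ⟶ U.presheaf.stalk u :=
  X.presheaf.stalkSpecializes (specializes_of_eq h) ≫ g.stalkMap u

theorem phi_rfl {U : Scheme.{u}} (g : U ⟶ X) (u : U) : phi g u rfl = g.stalkMap u := by
  rw [phi, TopCat.Presheaf.stalkSpecializes_refl, Category.id_comp]

theorem isLocalHom_phi {U : Scheme.{u}} (g : U ⟶ X) (u : U) (h : g u = x) : IsLocalHom (phi g u h).hom := by
  subst h
  rw [phi_rfl]
  infer_instance

theorem bijective_residueFieldMap_iff {U : Scheme.{u}} (g : U ⟶ X) (u : U) (h : g u = x) :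
    haveI := isLocalHom_phi g u h
    Function.Bijective (g.residueFieldMap u).hom ↔ Function.Bijective (ResidueField.map (phi g u h).hom) := by
  subst h
  haveI := isLocalHom_phi g u rfl
  have : ResidueField.map (phi g u rfl).hom = ResidueField.map (g.stalkMap u).hom := by
    congr 1
    rw [phi_rfl]
  rw [this]
  rfl

theorem isLocalization_germ {U : Scheme.{u}} {W : U.Opens} (hW : IsAffineOpen W) (u : U) (hu : u ∈ W) :
    letI := (U.presheaf.germ W u hu).hom.toAlgebra
    IsLocalization.AtPrime (U.presheaf.stalk u) ((maximalIdeal (U.presheaf.stalk u)).comap (U.presheaf.germ W u hu).hom) := by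
  have h := hW.isLocalization_stalk ⟨u, hu⟩
  have e : (hW.primeIdealOf ⟨u, hu⟩).asIdeal = (maximalIdeal (U.presheaf.stalk u)).comap (U.presheaf.germ W u hu).hom := by
    rw [hW.primeIdealOf_eq_map_closedPoint]
    rfl
  have e' : (hW.primeIdealOf ⟨u, hu⟩).asIdeal.primeCompl =
      ((maximalIdeal (U.presheaf.stalk u)).comap (U.presheaf.germ W u hu).hom).primeCompl :=
    SetLike.ext fun z => by rw [Ideal.mem_primeCompl_iff, Ideal.mem_primeCompl_iff, e]
  letI := (U.presheaf.germ W u hu).hom.toAlgebra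
  show IsLocalization _ _
  rw [← e']
  exact h

variable (V : X.Opens) (hV : IsAffineOpen V) (hxV : x ∈ V)

theorem germ_phi {U : Scheme.{u}} (g : U ⟶ X) (u : U) (h : g u = x) (hxV : x ∈ V) (W : U.Opens) (hW : u ∈ W)
    (hle : W ≤ g ⁻¹ᵁ V) :
    X.presheaf.germ V x hxV ≫ phi g u h = g.appLE V W hle ≫ U.presheaf.germ W u hW := by
  unfold phi Scheme.Hom.appLE
  rw [TopCat.Presheaf.germ_stalkSpecializes_assoc, Scheme.Hom.germ_stalkMap, Category.assoc,
    TopCat.Presheaf.germ_res]

/-- An etale neighbourhood is locally an etale algebra over an affine neighbourhood. -/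
theorem exists_localData {U : Scheme.{u}} (g : U ⟶ X) [Etale g] (u : U) (h : g u = x) (hV : IsAffineOpen V)
    (hxV : x ∈ V) :
    ∃ (B : Type u) (_ : CommRing B) (_ : Algebra Γ(X, V) B) (_ : Algebra.Etale Γ(X, V) B)
      (ι : B →+* U.presheaf.stalk u),
      (letI := ι.toAlgebra; IsLocalization.AtPrime (U.presheaf.stalk u) ((maximalIdeal (U.presheaf.stalk u)).comap ι)) ∧
        (phi g u h).hom.comp (X.presheaf.germ V x hxV).hom = ι.comp (algebraMap Γ(X, V) B) := by
  obtain ⟨W, hW, huW, hle⟩ := exists_isAffineOpen_mem_and_subset (x := u) (U := g ⁻¹ᵁ V) (by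
    show g u ∈ V
    rw [h]; exact hxV)
  have het : (g.appLE V W hle).hom.Etale :=
    HasRingHomProperty.appLE (P := @Etale) g inferInstance ⟨V, hV⟩ ⟨W, hW⟩ hle
  letI := (g.appLE V W hle).hom.toAlgebra
  haveI : Algebra.Etale Γ(X, V) Γ(U, W) := het.toAlgebra
  refine ⟨Γ(U, W), inferInstance, inferInstance, inferInstance, (U.presheaf.germ W u huW).hom,
    isLocalization_germ hW u huW, ?_⟩
  show (X.presheaf.germ V x hxV ≫ phi g u h).hom = (g.appLE V W hle ≫ U.presheaf.germ W u huW).hom
  rw [germ_phi V g u h hxV W huW hle]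

/-- An etale algebra with a prime over the point gives a neighbourhood. -/
theorem exists_spec_nbhd (hV : IsAffineOpen V) (hxV : x ∈ V) (B : Type u) [CommRing B] [Algebra Γ(X, V) B]
    [Algebra.Etale Γ(X, V) B] (q : Ideal B) [q.IsPrime]
    (hq : q.comap (algebraMap Γ(X, V) B) = (maximalIdeal (X.presheaf.stalk x)).comap (X.presheaf.germ V x hxV).hom) :
    ∃ (U : Scheme.{u}) (g : U ⟶ X) (u : U) (_ : Etale g) (h : g u = x) (ι : B →+* U.presheaf.stalk u),
      (maximalIdeal (U.presheaf.stalk u)).comap ι = q ∧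
      (letI := ι.toAlgebra; IsLocalization.AtPrime (U.presheaf.stalk u) ((maximalIdeal (U.presheaf.stalk u)).comap ι)) ∧
        (phi g u h).hom.comp (X.presheaf.germ V x hxV).hom = ι.comp (algebraMap Γ(X, V) B) := by
  let b := CommRingCat.ofHom (algebraMap Γ(X, V) B)
  let g : Spec (CommRingCat.of B) ⟶ X := Spec.map b ≫ hV.fromSpec
  let pt : ↥(Spec (CommRingCat.of B)) := (⟨q, inferInstance⟩ : PrimeSpectrum B)
  haveI : Etale (Spec.map b) :=
    (HasRingHomProperty.Spec_iff (P := @Etale)).mpr (RingHom.etale_algebraMap.mpr inferInstance)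
  have hp : Spec.map b pt = hV.primeIdealOf ⟨x, hxV⟩ := by
    rw [hV.primeIdealOf_eq_map_closedPoint]
    exact PrimeSpectrum.ext hq
  have h : g pt = x := by
    show hV.fromSpec (Spec.map b pt) = x
    rw [hp, hV.fromSpec_primeIdealOf]
  refine ⟨Spec (CommRingCat.of B), g, pt, inferInstance, h,
    ((Scheme.ΓSpecIso (CommRingCat.of B)).inv ≫
      (Spec (CommRingCat.of B)).presheaf.germ ⊤ pt trivial).hom, ?_, ?_, ?_⟩
  · ext c
    have hc := Scheme.mem_basicOpen (Spec (CommRingCat.of B)) ((Scheme.ΓSpecIso (CommRingCat.of B)).inv c) pt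
      (trivial : pt ∈ (⊤ : (Spec (CommRingCat.of B)).Opens))
    rw [basicOpen_eq_of_affine] at hc
    rw [Ideal.mem_comap, mem_maximalIdeal, mem_nonunits_iff]
    exact (not_congr hc.symm).trans not_not
  · let j : Γ(Spec (CommRingCat.of B), ⊤) ≃+* B := (Scheme.ΓSpecIso (CommRingCat.of B)).commRingCatIsoToRingEquiv
    letI := ((Spec (CommRingCat.of B)).presheaf.germ ⊤ pt trivial).hom.toAlgebra
    haveI := isLocalization_germ (isAffineOpen_top (Spec (CommRingCat.of B))) pt trivial
    have hbase := IsLocalization.isLocalization_of_base_ringEquiv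
      ((maximalIdeal ((Spec (CommRingCat.of B)).presheaf.stalk pt)).comap
        ((Spec (CommRingCat.of B)).presheaf.germ ⊤ pt trivial).hom).primeCompl
      ((Spec (CommRingCat.of B)).presheaf.stalk pt) j
    have hM : (((maximalIdeal ((Spec (CommRingCat.of B)).presheaf.stalk pt)).comap
        ((Spec (CommRingCat.of B)).presheaf.germ ⊤ pt trivial).hom).primeCompl.map (j : _ →* B)) =
      ((maximalIdeal ((Spec (CommRingCat.of B)).presheaf.stalk pt)).comap
        ((Scheme.ΓSpecIso (CommRingCat.of B)).inv ≫ (Spec (CommRingCat.of B)).presheaf.germ ⊤ pt trivial).hom).primeCompl := by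
      ext c
      rw [Submonoid.mem_map]
      constructor
      · rintro ⟨d, hd, rfl⟩
        show ¬ (Spec (CommRingCat.of B)).presheaf.germ ⊤ pt trivial (j.symm (j d)) ∈
          maximalIdeal ((Spec (CommRingCat.of B)).presheaf.stalk pt)
        rw [j.symm_apply_apply]
        exact hd
      · exact fun hc => ⟨j.symm c, hc, j.apply_symm_apply c⟩
    letI := ((Scheme.ΓSpecIso (CommRingCat.of B)).inv ≫
      (Spec (CommRingCat.of B)).presheaf.germ ⊤ pt trivial).hom.toAlgebra
    show IsLocalization _ _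
    rw [← hM]
    exact hbase
  · show (X.presheaf.germ V x hxV ≫ phi g _ h).hom =
      (b ≫ (Scheme.ΓSpecIso (CommRingCat.of B)).inv ≫ (Spec (CommRingCat.of B)).presheaf.germ ⊤ _ trivial).hom
    have hle : (⊤ : (Spec (CommRingCat.of B)).Opens) ≤ g ⁻¹ᵁ V := fun y _ => by
      show hV.fromSpec (Spec.map b y) ∈ V
      exact hV.range_fromSpec.le ⟨_, rfl⟩
    have happ : g.appLE V ⊤ hle = b ≫ (Scheme.ΓSpecIso (CommRingCat.of B)).inv := by
      apply Spec.map_injective
      rw [← cancel_mono hV.fromSpec, IsAffineOpen.SpecMap_appLE_fromSpec g hV (isAffineOpen_top _) hle,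
        IsAffineOpen.fromSpec_top, Spec.map_comp, Category.assoc, Scheme.isoSpec_Spec_inv]
    rw [germ_phi V g pt h hxV ⊤ trivial hle, happ, Category.assoc]

variable (J : Ideal (X.presheaf.stalk x)) (hJ : J ≤ maximalIdeal (X.presheaf.stalk x))

include hJ

/-- Geometric branches modulo an ideal. -/
theorem numGeomBranches_eq_iSup [IsLocalRing (X.presheaf.stalk x ⧸ J)] :
    Brnch.numGeomBranches (X.presheaf.stalk x ⧸ J) =
      ⨆ (U : Scheme.{u}) (g : U ⟶ X) (u : U) (h : Etale g ∧ g u = x),
        (J.map (phi g u h.2).hom).minimalPrimes.encard := by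
  obtain ⟨V, hV, hxV, -⟩ := exists_isAffineOpen_mem_and_subset (x := x) (U := ⊤) trivial
  letI := (X.presheaf.germ V x hxV).hom.toAlgebra
  let p := (maximalIdeal (X.presheaf.stalk x)).comap (algebraMap Γ(X, V) (X.presheaf.stalk x))
  haveI : IsLocalization.AtPrime (X.presheaf.stalk x) p := isLocalization_germ hV x hxV
  rw [← encard_henz_algClosure p (X.presheaf.stalk x) J hJ]
  refine le_antisymm ?_ (iSup_le fun U => iSup_le fun g => iSup_le fun u => iSup_le fun h => ?_)
  · rw [encard_minimalPrimes_henz]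
    refine iSup_le fun N => ?_
    haveI : (RingHom.ker N.toK).IsPrime := RingHom.ker_isPrime _
    obtain ⟨U, g, u, hg, h, ι, hι, hloc, hφ⟩ := exists_spec_nbhd V hV hxV N.B (RingHom.ker N.toK) (by
      ext a
      rw [Ideal.mem_comap, RingHom.mem_ker, AlgHom.commutes,
        IsScalarTower.algebraMap_apply Γ(X, V) p.ResidueField, map_eq_zero, Ideal.algebraMap_residueField_eq_zero]
      rfl)
    refine le_trans (le_of_eq ?_) (le_iSup_of_le U (le_iSup_of_le g (le_iSup_of_le u (le_iSup_of_le ⟨hg, h⟩ le_rfl))))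
    letI := ι.toAlgebra
    haveI := hloc
    have hM : ((maximalIdeal (U.presheaf.stalk u)).comap ι).primeCompl = N.S := by
      ext b
      show ¬ b ∈ (maximalIdeal (U.presheaf.stalk u)).comap ι ↔ IsUnit (N.toK b)
      rw [hι, RingHom.mem_ker, isUnit_iff_ne_zero]
    haveI : IsLocalization N.S (U.presheaf.stalk u) := hM ▸ hloc
    let E := (IsLocalization.algEquiv N.S N.Stage (U.presheaf.stalk u)).toRingEquiv
    conv_rhs => rw [← map_comap_eq p (X.presheaf.stalk x) J, Ideal.map_map, RingHom.algebraMap_toAlgebra, hφ]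
    rw [← encard_minimalPrimes_equiv E, Ideal.map_map]
    congr 3
    refine RingHom.ext fun a => ?_
    show E (algebraMap Γ(X, V) N.Stage a) = ι (algebraMap Γ(X, V) N.B a)
    rw [IsScalarTower.algebraMap_apply Γ(X, V) N.B N.Stage]
    exact AlgEquiv.commutes (IsLocalization.algEquiv N.S N.Stage (U.presheaf.stalk u)) _
  · haveI := h.1
    haveI := isLocalHom_phi g u h.2
    obtain ⟨B, _, _, _, ι, hloc, hφ⟩ := exists_localData V g u h.2 hV hxV
    obtain ⟨τ, hτ⟩ := exists_point_algClosure p (phi g u h.2).hom ι hloc hφ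
    exact encard_le_henz p J (phi g u h.2).hom ι hloc hφ τ hτ

/-- Branches modulo an ideal. -/
theorem numBranches_eq_iSup [IsLocalRing (X.presheaf.stalk x ⧸ J)] :
    Brnch.numBranches (X.presheaf.stalk x ⧸ J) =
      ⨆ (U : Scheme.{u}) (g : U ⟶ X) (u : U) (h : Hens2.IsEtaleNbhd g u x),
        (J.map (phi g u h.base_eq).hom).minimalPrimes.encard := by
  obtain ⟨V, hV, hxV, -⟩ := exists_isAffineOpen_mem_and_subset (x := x) (U := ⊤) trivial
  letI := (X.presheaf.germ V x hxV).hom.toAlgebra
  let p := (maximalIdeal (X.presheaf.stalk x)).comap (algebraMap Γ(X, V) (X.presheaf.stalk x))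
  haveI : IsLocalization.AtPrime (X.presheaf.stalk x) p := isLocalization_germ hV x hxV
  rw [← encard_henz_residueField p (X.presheaf.stalk x) J hJ]
  refine le_antisymm ?_ (iSup_le fun U => iSup_le fun g => iSup_le fun u => iSup_le fun h => ?_)
  · rw [encard_minimalPrimes_henz]
    refine iSup_le fun N => ?_
    haveI : (RingHom.ker N.toK).IsPrime := RingHom.ker_isPrime _
    obtain ⟨U, g, u, hg, h, ι, hι, hloc, hφ⟩ := exists_spec_nbhd V hV hxV N.B (RingHom.ker N.toK) (by
      ext a
      rw [Ideal.mem_comap, RingHom.mem_ker, AlgHom.commutes, Ideal.algebraMap_residueField_eq_zero]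
      rfl)
    letI := ι.toAlgebra
    haveI := hloc
    haveI := isLocalHom_phi g u h
    have hres : Function.Bijective (ResidueField.map (phi g u h).hom) := by
      refine ⟨RingHom.injective _, fun y => ?_⟩
      obtain ⟨z, rfl⟩ := residue_surjective y
      have key : ∀ b : N.B, ∃ r, ResidueField.map (phi g u h).hom r = residue _ (ι b) := by
        intro b
        obtain ⟨a, s, hs, e⟩ := IsFractionRing.div_surjective (Γ(X, V) ⧸ p) (N.toK b)
        obtain ⟨a, rfl⟩ := Ideal.Quotient.mk_surjective a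
        obtain ⟨s, rfl⟩ := Ideal.Quotient.mk_surjective s
        rw [Ideal.algebraMap_quotient_residueField_mk, Ideal.algebraMap_quotient_residueField_mk] at e
        have hs' : s ∉ p := fun hs' => (mem_nonZeroDivisors_iff_ne_zero.mp hs) (Ideal.Quotient.eq_zero_iff_mem.mpr hs')
        rw [div_eq_iff (fun e0 => hs' (Ideal.algebraMap_residueField_eq_zero.mp e0))] at e
        have hmem : algebraMap Γ(X, V) N.B a - b * algebraMap Γ(X, V) N.B s ∈ RingHom.ker N.toK := by
          rw [RingHom.mem_ker, map_sub, map_mul, AlgHom.commutes, AlgHom.commutes, e, sub_self]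
        rw [← hι, Ideal.mem_comap, ← residue_eq_zero_iff, map_sub, map_sub, map_mul, map_mul, sub_eq_zero,
          ← RingHom.comp_apply ι, ← hφ, ← RingHom.comp_apply ι, ← hφ, RingHom.comp_apply, RingHom.comp_apply] at hmem
        refine ⟨residue _ (X.presheaf.germ V x hxV a) / residue _ (X.presheaf.germ V x hxV s), ?_⟩
        have hsu : IsUnit (algebraMap Γ(X, V) (X.presheaf.stalk x) s) :=
          (IsLocalization.AtPrime.isUnit_to_map_iff (X.presheaf.stalk x) p s).2 hs'
        rw [map_div₀, ResidueField.map_residue, ResidueField.map_residue]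
        exact (div_eq_iff ((residue_ne_zero_iff_isUnit _).2 (hsu.map (phi g u h).hom))).2 hmem
      obtain ⟨b, c, rfl⟩ := IsLocalization.exists_mk'_eq ((maximalIdeal (U.presheaf.stalk u)).comap ι).primeCompl z
      obtain ⟨r, hr⟩ := key b
      obtain ⟨r', hr'⟩ := key c
      refine ⟨r / r', ?_⟩
      have hcu : IsUnit (ι c) := IsLocalization.map_units (U.presheaf.stalk u) c
      rw [map_div₀, hr, hr', div_eq_iff ((residue_ne_zero_iff_isUnit _).2 hcu), ← map_mul]
      exact congrArg _ (IsLocalization.mk'_spec _ b c).symm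
    have hnb : Hens2.IsEtaleNbhd g u x := ⟨hg, h, (bijective_residueFieldMap_iff g u h).2 hres⟩
    refine le_trans (le_of_eq ?_) (le_iSup_of_le U (le_iSup_of_le g (le_iSup_of_le u (le_iSup_of_le hnb le_rfl))))
    have hM : ((maximalIdeal (U.presheaf.stalk u)).comap ι).primeCompl = N.S := by
      ext b
      show ¬ b ∈ (maximalIdeal (U.presheaf.stalk u)).comap ι ↔ IsUnit (N.toK b)
      rw [hι, RingHom.mem_ker, isUnit_iff_ne_zero]
    haveI : IsLocalization N.S (U.presheaf.stalk u) := hM ▸ hloc
    let E := (IsLocalization.algEquiv N.S N.Stage (U.presheaf.stalk u)).toRingEquiv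
    conv_rhs => rw [← map_comap_eq p (X.presheaf.stalk x) J, Ideal.map_map, RingHom.algebraMap_toAlgebra, hφ]
    rw [← encard_minimalPrimes_equiv E, Ideal.map_map]
    congr 3
    refine RingHom.ext fun a => ?_
    show E (algebraMap Γ(X, V) N.Stage a) = ι (algebraMap Γ(X, V) N.B a)
    rw [IsScalarTower.algebraMap_apply Γ(X, V) N.B N.Stage]
    exact AlgEquiv.commutes (IsLocalization.algEquiv N.S N.Stage (U.presheaf.stalk u)) _
  · haveI := h.etale
    haveI := isLocalHom_phi g u h.base_eq
    obtain ⟨B, _, _, _, ι, hloc, hφ⟩ := exists_localData V g u h.base_eq hV hxV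
    obtain ⟨τ, hτ⟩ := exists_point_residueField p (phi g u h.base_eq).hom ι hloc hφ
      ((bijective_residueFieldMap_iff g u h.base_eq).1 h.residue_bijective)
    exact encard_le_henz p J (phi g u h.base_eq).hom ι hloc hφ τ hτ

end Groth.Agent.Brnch93
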